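import Groth.Agent.Models.H49.P1Recog
import Groth.Agent.Dix.Cast2
import Groth.Prelude.Def_ModelsG

/-!
# Exceptional vertical curves: numerical characterisation (helper49, S3326)

For `X` proper over a discrete valuation ring `R` and a vertical prime divisor `Γ` with `O_X(Γ)` given by `L`:
`Γ` is an exceptional curve of the first kind iff `H^1(Γ, O) = 0` and `(Γ·Γ) = -dim_k H^0(Γ, O)`.
-/

set_option autoImplicit false
universe u

open CategoryTheory CategoryTheory.Limits AlgebraicGeometry TopologicalSpace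

namespace Groth.Agent.Models.H49.ExcIff

open Groth.Agent.Dix Groth.Agent.Dix.EtMinF Groth.Agent.Dix.IdealModCartier Groth.Agent.Dix.InterNum

section curve

variable (k : Type u) [Field k] (Y : Scheme.{u}) [Y.Over (Spec (CommRingCat.of k))]

/-- Degrees and cohomology of a projective line over an extension `k'` of `k`, seen over `k`. -/
theorem of_iso (k' : Type u) [Field k'] (e : CohB1.ProjSpace 1 k' ≅ Y) (M : Y.Modules) (hM : PicF.IsInvertible M)
    (h : (Scheme.Modules.pullback e.hom).obj M ≅ Twist.twistProjSpace 1 k' 1) :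
    Module.finrank k (Coh.HH Y (Coh.structureModule Y) 1) = 0 ∧
      ArSurf.curveDeg k Y M = Module.finrank k (Coh.HH Y (Coh.structureModule Y) 0) := by
  obtain ⟨σ, hσ⟩ := exists_factor 1 k' (e.hom ≫ (Y ↘ Spec (CommRingCat.of k)))
  obtain ⟨a, rfl⟩ := Spec.map_surjective σ
  let iAlg : Algebra k k' := a.hom.toAlgebra
  let iOv : (CohB1.ProjSpace 1 k').Over (Spec (CommRingCat.of k)) :=
    ⟨(CohB1.ProjSpace 1 k' ↘ Spec (CommRingCat.of k')) ≫ Spec.map (CommRingCat.ofHom (algebraMap k k'))⟩
  have he : e.hom ≫ (Y ↘ Spec (CommRingCat.of k)) = (CohB1.ProjSpace 1 k') ↘ Spec (CommRingCat.of k) := hσ.symm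
  have hO : ∀ n, Module.finrank k (Coh.HH Y (Coh.structureModule Y) n) = Module.finrank k k' *
      Module.finrank k' (Coh.HH (CohB1.ProjSpace 1 k') (Coh.structureModule (CohB1.ProjSpace 1 k')) n) := by
    intro n
    rw [← Cast0.finrank_HH_iso k e.hom he (Coh.structureModule Y) (CurvesC.UnitCoh.isQCoh_unit Y) n,
      (CurvesA.HHMap.equivOver k (CurvesA.HHMap.pullbackUnit e.hom) n).finrank_eq]
    exact Cast0.finrank_HH_const k k' (CohB1.ProjSpace 1 k') rfl _ n
  have hiso : IsIso ((CohB1.ProjSpace 1 k') ↘ Spec (CommRingCat.of k')).appTop := Groth.Agent.S0024.result 1 k'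
  have h0 := finrank_H0 k' (CohB1.ProjSpace 1 k')
  refine ⟨?_, ?_⟩
  · have := Groth.Agent.S0023.result 1 k' 1 one_pos
    rw [hO 1]
    exact mul_eq_zero_of_right _ Module.finrank_zero_of_subsingleton
  · rw [hO 0, h0, mul_one, ← Cast0.curveDeg_pullback_iso k e.hom he M (Ega2.QCohLocal.isQCoh_of_isInvertible hM),
      Cast0.curveDeg_const k k' (CohB1.ProjSpace 1 k') rfl, Cast0.curveDeg_congr k' h, Cast2.wp2_deg, mul_one]

end curve

section surface

variable {R : Type u} [CommRing R] [IsDomain R] [IsDiscreteValuationRing R] {X : Over (Spec (CommRingCat.of R))}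

theorem isProper_curve (hX : IsProper X.hom) (Γ : ArSurf.VertComp R X) :
    IsProper (Γ.curve.left ↘ Spec (CommRingCat.of (IsLocalRing.ResidueField R))) := by
  have h1 : IsProper (Γ.curve.hom ≫ Spec.map (CommRingCat.ofHom (IsLocalRing.residue R))) := by
    rw [← Γ.w]
    infer_instance
  have h2 : IsSeparated (Spec.map (CommRingCat.ofHom (IsLocalRing.residue R))) := inferInstance
  exact IsProper.of_comp Γ.curve.hom (Spec.map (CommRingCat.ofHom (IsLocalRing.residue R)))

theorem inter_inverse (hX : IsProper X.hom) (Γ : ArSurf.VertComp R X) {L M : X.left.Modules}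
    (h : ClSub.IsInverseOf L M) : ArSurf.inter R X L Γ = - ArSurf.inter R X M Γ := by
  have := isProper_curve hX Γ
  unfold ArSurf.inter
  rw [curveDeg_eq _ _ Γ.dim_eq, curveDeg_eq _ _ Γ.dim_eq]
  exact deg_inverse _ _ Γ.dim_eq (InterSurf.isInverseOf_pullback Γ.ι h)

/-- **Numerical characterisation of exceptional vertical curves** on a proper scheme over a discrete valuation ring. -/
theorem isExcCurve_iff (hX : IsProper X.hom) (Γ : ArSurf.VertComp R X) {L : X.left.Modules}
    (hL : ClSub.IsInverseOf L (ClSub.idealMod Γ.ι.ker)) :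
    Models.IsExcCurve Γ.ι ↔
      Models.h1 R X Γ = 0 ∧ ArSurf.inter R X L Γ = -(Models.wdeg R X Γ : ℤ) := by
  have hp := isProper_curve hX Γ
  have hI := (isInvertible_of_isInverseOf hL).2
  have hI' := Fdesc.LocGen.isInvertible_pullback Γ.ι hI
  rw [inter_inverse hX Γ hL, neg_inj]
  constructor
  · rintro ⟨-, k', ik', e, ⟨h⟩⟩
    exact of_iso (IsLocalRing.ResidueField R) Γ.curve.left k' e _ hI'
      ((Scheme.Modules.pullbackComp e.hom Γ.ι).app _ ≪≫ h)
  · rintro ⟨h1, h2⟩
    refine ⟨isEffCartierIdeal_of_isInverseOf hL, ?_⟩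
    obtain ⟨K, iK, iA, hfin, e, -, -, ⟨h⟩⟩ := P1Recog.exists_iso_const (IsLocalRing.ResidueField R) Γ.curve.left
      Γ.dim_eq h1 _ hI' h2
    exact ⟨K, iK, e, ⟨(Scheme.Modules.pullbackComp e.hom Γ.ι).symm.app _ ≪≫ h⟩⟩

end surface

end Groth.Agent.Models.H49.ExcIff
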