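import Groth.Agent.Dix.EtMinG
import Groth.Prelude.Def_ArSurf

/-!
# Recognition of the projective line (helper49, S3326)

An integral proper curve `Y` over `k` with `H^1(Y, O) = 0` and an invertible module `M` of degree
`dim_k H^0(Y, O)` is isomorphic to the projective line over `κ = H^0(Y, O)`, and `M` becomes `O(1)`.
-/

set_option autoImplicit false
universe u

open CategoryTheory CategoryTheory.Limits AlgebraicGeometry TopologicalSpace

namespace Groth.Agent.Models.H49.P1Recog

open Groth.Agent.Dix Groth.Agent.Dix.EtMinF Groth.Agent.Dix.EtMinG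

/-- Transport of modules along the inverse of an isomorphism. -/
theorem nonempty_pullback_inv {X Y : Scheme.{u}} (e : X ≅ Y) {M : X.Modules} {N : Y.Modules}
    (h : (Scheme.Modules.pullback e.hom).obj N ≅ M) :
    Nonempty ((Scheme.Modules.pullback e.inv).obj M ≅ N) := by
  obtain ⟨c⟩ := EtMinA.nonempty_pullback_congr e.inv_hom_id N
  exact ⟨(Scheme.Modules.pullback e.inv).mapIso h.symm ≪≫ (Scheme.Modules.pullbackComp e.inv e.hom).app N ≪≫
    c ≪≫ (Scheme.Modules.pullbackId Y).app N⟩

/-- Recognition of the projective line over a field `k` with `H^0(Y, O) = k`. -/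
theorem exists_iso (k : Type u) [Field k] (Y : Scheme.{u}) [Y.Over (Spec (CommRingCat.of k))]
    [IsIntegral Y] [IsProper (Y ↘ Spec (CommRingCat.of k))] (hdim : topologicalKrullDim Y = 1)
    (h0 : Module.finrank k (Coh.HH Y (Coh.structureModule Y) 0) = 1)
    (h1 : Module.finrank k (Coh.HH Y (Coh.structureModule Y) 1) = 0)
    (M : Y.Modules) (hM : PicF.IsInvertible M) (hdeg : ArSurf.curveDeg k Y M = 1) :
    ∃ e : CohB1.ProjSpace 1 k ≅ Y,
      e.hom ≫ (Y ↘ Spec (CommRingCat.of k)) = CohB1.ProjSpace.toSpec 1 k ∧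
      Nonempty ((Scheme.Modules.pullback e.hom).obj M ≅ Twist.twistProjSpace 1 k 1) := by
  obtain ⟨i, hi, hi2, ⟨E⟩⟩ := Groth.Agent.S1636.result k Y hdim h0 h1 M hM 1 one_pos
    (by rw [← InterNum.curveDeg_eq k Y hdim, hdeg]; rfl)
  have hisurj := surjective_of_dim i hdim (topologicalKrullDim_P1 k)
  have hiiso : IsIso i := isIso_of_isClosedImmersion_of_surjective i
  refine ⟨(asIso i).symm, ?_, nonempty_pullback_inv (asIso i) E⟩
  rw [Iso.symm_hom, asIso_inv, IsIso.inv_comp_eq]
  exact hi2.symm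

/-- Recognition of the projective line over the field of constants. -/
theorem exists_iso_const (k : Type u) [Field k] (Y : Scheme.{u}) [Y.Over (Spec (CommRingCat.of k))]
    [IsIntegral Y] [IsProper (Y ↘ Spec (CommRingCat.of k))] (hdim : topologicalKrullDim Y = 1)
    (h1 : Module.finrank k (Coh.HH Y (Coh.structureModule Y) 1) = 0)
    (M : Y.Modules) (hM : PicF.IsInvertible M)
    (hdeg : ArSurf.curveDeg k Y M = Module.finrank k (Coh.HH Y (Coh.structureModule Y) 0)) :
    ∃ (K : Type u) (_ : Field K) (_ : Algebra k K) (_ : FiniteDimensional k K)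
      (e : CohB1.ProjSpace 1 K ≅ Y),
      e.hom ≫ (Y ↘ Spec (CommRingCat.of k)) = CohB1.ProjSpace.toSpec 1 K ≫
        Spec.map (CommRingCat.ofHom (algebraMap k K)) ∧
      Module.finrank k K = Module.finrank k (Coh.HH Y (Coh.structureModule Y) 0) ∧
      Nonempty ((Scheme.Modules.pullback e.hom).obj M ≅ Twist.twistProjSpace 1 K 1) := by
  have hF : IsField Γ(Y, ⊤) := isField_of_universallyClosed k (Y ↘ Spec (CommRingCat.of k))
  have hsurj : ∀ {A B : CommRingCat.{u}} (f : A ⟶ B) [IsIso f], f.hom.Finite := fun f _ =>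
    RingHom.Finite.of_surjective _ (ConcreteCategory.bijective_of_isIso f).2
  have hFin : ((Scheme.ΓSpecIso (CommRingCat.of k)).inv ≫
      (Y ↘ Spec (CommRingCat.of k)).appTop).hom.Finite := by
    rw [CommRingCat.hom_comp]
    exact (finite_appTop_of_universallyClosed k (Y ↘ Spec (CommRingCat.of k))).comp (hsurj _)
  obtain ⟨K, iK, φ, -⟩ : ∃ (K : Type u) (_ : Field K) (_ : K ≃+* Γ(Y, ⊤)), True := by
    let _ := hF.toField
    exact ⟨Γ(Y, ⊤), inferInstance, RingEquiv.refl _, trivial⟩
  let ψ : CommRingCat.of K ≅ Γ(Y, ⊤) := φ.toCommRingCatIso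
  let a : CommRingCat.of k ⟶ CommRingCat.of K := (Scheme.ΓSpecIso (CommRingCat.of k)).inv ≫
    (Y ↘ Spec (CommRingCat.of k)).appTop ≫ ψ.inv
  let g : Y ⟶ Spec (CommRingCat.of K) := Y.toSpecΓ ≫ Spec.map ψ.hom
  let iAlg : Algebra k K := a.hom.toAlgebra
  let iOv : Y.Over (Spec (CommRingCat.of K)) := ⟨g⟩
  have ha : CommRingCat.ofHom (algebraMap k K) = a := rfl
  have hfac : (Y ↘ Spec (CommRingCat.of k)) = g ≫ Spec.map (CommRingCat.ofHom (algebraMap k K)) := by
    rw [ha]
    have h1 : Spec.map ψ.hom ≫ Spec.map ψ.inv = 𝟙 _ := by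
      rw [← Spec.map_comp, Iso.inv_hom_id, Spec.map_id]
    have h2 := Scheme.toSpecΓ_naturality (Y ↘ Spec (CommRingCat.of k))
    simp only [g, a, Spec.map_comp, Category.assoc]
    rw [reassoc_of% h1, ← reassoc_of% h2, toSpecΓ_SpecMap_ΓSpecIso_inv, Category.comp_id]
  have hKfin : FiniteDimensional k K := by
    have h3 : a.hom.Finite := by
      have h4 : a = ((Scheme.ΓSpecIso (CommRingCat.of k)).inv ≫
        (Y ↘ Spec (CommRingCat.of k)).appTop) ≫ ψ.inv := by simp [a]
      rw [h4, CommRingCat.hom_comp]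
      exact (hsurj ψ.inv).comp hFin
    exact h3
  have hKpos : 0 < Module.finrank k K := Module.finrank_pos
  have hiso : IsIso (Y ↘ Spec (CommRingCat.of K)).appTop := by
    change IsIso (Y.toSpecΓ ≫ Spec.map ψ.hom).appTop
    rw [Scheme.Hom.comp_appTop, Scheme.toSpecΓ_appTop]
    have h8 : IsIso (Spec.map ψ.hom).appTop := inferInstanceAs (IsIso ((Spec.map ψ.hom).app ⊤))
    exact IsIso.comp_isIso
  have hprop : IsProper (Y ↘ Spec (CommRingCat.of K)) := by
    have h5 : IsProper (g ≫ Spec.map (CommRingCat.ofHom (algebraMap k K))) := by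
      rw [← hfac]; infer_instance
    exact IsProper.of_comp g (Spec.map (CommRingCat.ofHom (algebraMap k K)))
  have h0K : Module.finrank K (Coh.HH Y (Coh.structureModule Y) 0) = 1 := finrank_H0 K Y
  have e0 := Cast0.finrank_HH_const k K Y hfac (Coh.structureModule Y) 0
  have e1 := Cast0.finrank_HH_const k K Y hfac (Coh.structureModule Y) 1
  rw [h1] at e1
  have h1K : Module.finrank K (Coh.HH Y (Coh.structureModule Y) 1) = 0 := by
    rcases mul_eq_zero.1 e1.symm with h | h
    · exact absurd h hKpos.ne'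
    · exact h
  rw [h0K, mul_one] at e0
  have hdegK : ArSurf.curveDeg K Y M = 1 := by
    have h6 := Cast0.curveDeg_const k K Y hfac M
    rw [hdeg, e0] at h6
    have h7 : (Module.finrank k K : ℤ) ≠ 0 := by exact_mod_cast hKpos.ne'
    exact mul_left_cancel₀ h7 (by rw [← h6, mul_one])
  obtain ⟨e, he1, he2⟩ := exists_iso K Y hdim h0K h1K M hM hdegK
  refine ⟨K, iK, iAlg, hKfin, e, ?_, e0.symm, he2⟩
  rw [hfac, ← he1, Category.assoc]
  rfl

end Groth.Agent.Models.H49.P1Recog
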